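import Mathlib
import Groth.Prelude.Def_EtRam

/-! A valuation subring dominating two rings over a flat local extension. -/

set_option autoImplicit false
universe u

open scoped TensorProduct

namespace EtRamTowerLib

/-- In a valuation ring, an element of an extended ideal is divisible by the image of one element. -/
theorem exists_dvd_of_mem_map {V W : Type u} [CommRing V] [IsDomain V] [ValuationRing V] [CommRing W]
    (i : V →+* W) (I : Ideal V) {x : W} (hx : x ∈ I.map i) : ∃ y ∈ I, i y ∣ x := by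
  refine Submodule.span_induction (p := fun x _ => ∃ y ∈ I, i y ∣ x) ?_ ?_ ?_ ?_ hx
  · rintro _ ⟨y, hy, rfl⟩
    exact ⟨y, hy, dvd_rfl⟩
  · exact ⟨0, I.zero_mem, dvd_zero _⟩
  · rintro a b _ _ ⟨y, hy, hya⟩ ⟨z, hz, hzb⟩
    rcases ValuationRing.dvd_total y z with h | h
    · exact ⟨y, hy, dvd_add hya ((map_dvd i h).trans hzb)⟩
    · exact ⟨z, hz, dvd_add ((map_dvd i h).trans hya) hzb⟩
  · rintro c a _ ⟨y, hy, hya⟩
    exact ⟨y, hy, by rw [smul_eq_mul]; exact dvd_mul_of_dvd_right hya c⟩

/-- A field receiving a field `M` with a valuation subring `W` dominating `B`, and a flat local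
`B`-algebra `C`, with a valuation subring dominating both `W` and `C`. -/
theorem exists_field_dominating (B C M : Type u) [CommRing B] [IsDomain B] [IsLocalRing B] [CommRing C] [IsLocalRing C]
    [Algebra B C] [IsLocalHom (algebraMap B C)] [Module.Flat B C] [Field M] [Algebra B M] (W : ValuationSubring M)
    (hW : EtRam.Dominates B (algebraMap B M) W) (hinjB : Function.Injective (algebraMap B M)) :
    ∃ (M' : Type u) (_ : Field M') (φ : M →+* M') (ψ : C →+* M') (W' : ValuationSubring M'),
      φ.comp (algebraMap B M) = ψ.comp (algebraMap B C) ∧ EtRam.Dominates C ψ W' ∧ W'.comap φ = W ∧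
      Subfield.closure (Set.range φ ∪ Set.range ψ) = ⊤ := by
  classical
  letI : Algebra B W := (RingHom.codRestrict (algebraMap B M) W hW.1).toAlgebra
  have hBW : ∀ b : B, ((algebraMap B W b : W) : M) = algebraMap B M b := fun b => rfl
  haveI : IsLocalHom (algebraMap B W) := ⟨fun b hb => by
    by_contra hnu
    have h1 := hW.2 b ((IsLocalRing.mem_maximalIdeal b).mpr hnu)
    rw [← hBW] at h1
    exact (IsLocalRing.mem_maximalIdeal _).mp ((W.valuation_lt_one_iff _).mpr h1) hb⟩
  let kB := IsLocalRing.ResidueField B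
  let kW := IsLocalRing.ResidueField W
  let kC := IsLocalRing.ResidueField C
  let E := kW ⊗[kB] kC
  let f : W →ₐ[B] E :=
    { ((Algebra.TensorProduct.includeLeft : kW →ₐ[kB] E).toRingHom.comp (IsLocalRing.residue W)) with
      commutes' := fun b => by
        show (IsLocalRing.residue W (algebraMap B W b)) ⊗ₜ[kB] (1 : kC) = _
        rfl }
  let g : C →ₐ[B] E :=
    { ((Algebra.TensorProduct.includeRight : kC →ₐ[kB] E).toRingHom.comp (IsLocalRing.residue C)) with
      commutes' := fun b => by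
        show (1 : kW) ⊗ₜ[kB] (IsLocalRing.residue C (algebraMap B C b)) = (IsLocalRing.residue W (algebraMap B W b)) ⊗ₜ[kB] (1 : kC)
        exact (Algebra.TensorProduct.tmul_one_eq_one_tmul (R := kB) (A := kW) (B := kC) (IsLocalRing.residue B b)).symm }
  let T := W ⊗[B] C
  let θ : T →ₐ[B] E := Algebra.TensorProduct.lift f g (fun _ _ => Commute.all _ _)
  haveI : Nontrivial E := inferInstance
  obtain ⟨N, hN⟩ := Ideal.exists_maximal E
  haveI := hN
  let Q : Ideal T := N.comap θ.toRingHom
  haveI : Q.IsPrime := Ideal.IsPrime.comap _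
  have hQW : Q.comap (algebraMap W T) = IsLocalRing.maximalIdeal W := by
    refine le_antisymm (IsLocalRing.le_maximalIdeal (Ideal.IsPrime.ne_top (Ideal.IsPrime.comap _))) fun w hw => ?_
    show θ (w ⊗ₜ[B] (1 : C)) ∈ N
    rw [Algebra.TensorProduct.lift_tmul, map_one, mul_one]
    show (IsLocalRing.residue W w) ⊗ₜ[kB] (1 : kC) ∈ N
    rw [(IsLocalRing.residue_eq_zero_iff w).mpr hw, TensorProduct.zero_tmul]
    exact zero_mem _
  have hQC : ∀ c ∈ IsLocalRing.maximalIdeal C, (Algebra.TensorProduct.includeRight c : T) ∈ Q := by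
    intro c hc
    show θ ((1 : W) ⊗ₜ[B] c) ∈ N
    rw [Algebra.TensorProduct.lift_tmul, map_one, one_mul]
    show (1 : kW) ⊗ₜ[kB] (IsLocalRing.residue C c) ∈ N
    rw [(IsLocalRing.residue_eq_zero_iff c).mpr hc, TensorProduct.tmul_zero]
    exact zero_mem _
  haveI : Module.Flat W T := inferInstance
  haveI : Q.LiesOver (IsLocalRing.maximalIdeal W) := ⟨hQW.symm⟩
  obtain ⟨P, hPQ, hP, hPover⟩ := Ideal.exists_ideal_le_liesOver_of_le (p := (⊥ : Ideal W))
    (q := IsLocalRing.maximalIdeal W) Q bot_le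
  haveI := hP
  let M' := FractionRing (T ⧸ P)
  let π : T →+* M' := (algebraMap (T ⧸ P) M').comp (Ideal.Quotient.mk P)
  have hπker : ∀ t, π t = 0 ↔ t ∈ P := by
    intro t
    rw [RingHom.comp_apply, map_eq_zero_iff _ (IsFractionRing.injective (T ⧸ P) M'), Ideal.Quotient.eq_zero_iff_mem]
  let φW : W →+* M' := π.comp (algebraMap W T)
  have hφW : Function.Injective φW := by
    rw [injective_iff_map_eq_zero]
    intro w hw
    have h1 : algebraMap W T w ∈ P := (hπker _).mp hw
    have h2 : w ∈ P.comap (algebraMap W T) := h1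
    rw [show P.comap (algebraMap W T) = ⊥ from hPover.over.symm] at h2
    exact h2
  let φ : M →+* M' := IsFractionRing.lift (K := M) hφW
  have hφ : ∀ w : W, φ (w : M) = φW w := fun w => IsFractionRing.lift_algebraMap hφW w
  let ψ : C →+* M' := π.comp (Algebra.TensorProduct.includeRight : C →ₐ[B] T).toRingHom
  have hcomm : φ.comp (algebraMap B M) = ψ.comp (algebraMap B C) := by
    ext b
    show φ ((algebraMap B W b : W) : M) = π ((1 : W) ⊗ₜ[B] algebraMap B C b)
    rw [hφ]
    show π ((algebraMap B W b) ⊗ₜ[B] (1 : C)) = _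
    rw [Algebra.TensorProduct.tmul_one_eq_one_tmul]
  let Q' : Ideal π.range := Q.map π.rangeRestrict
  have hQ' : Q' ≠ ⊤ := by
    intro h
    have h2 := congrArg (Ideal.comap π.rangeRestrict) h
    rw [Ideal.comap_map_of_surjective _ π.rangeRestrict_surjective, Ideal.comap_top, ← RingHom.ker_eq_comap_bot,
      π.ker_rangeRestrict, sup_eq_left.2 (fun t ht => hPQ ((hπker t).mp ht))] at h2
    exact Ideal.IsPrime.ne_top ‹_› h2
  obtain ⟨W', hW', hW'Q⟩ := Ideal.image_subset_nonunits_valuationSubring Q' hQ'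
  have hmem : ∀ t, π t ∈ W' := fun t => hW' ⟨t, rfl⟩
  have hlt : ∀ t ∈ Q, W'.valuation (π t) < 1 := fun t ht =>
    W'.mem_nonunits_iff.mp (hW'Q ⟨π.rangeRestrict t, Ideal.mem_map_of_mem _ ht, rfl⟩)
  refine ⟨M', inferInstance, φ, ψ, W', hcomm, ⟨fun c => hmem _, fun c hc => hlt _ (hQC c hc)⟩, ?_, ?_⟩
  · refine le_antisymm (fun x hx => ?_) (fun x hx => ?_)
    · by_contra hxW
      have hxi : x⁻¹ ∈ W := (W.mem_or_inv_mem x).resolve_left hxW
      have hm : (⟨x⁻¹, hxi⟩ : W) ∈ IsLocalRing.maximalIdeal W := by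
        rw [IsLocalRing.mem_maximalIdeal]
        intro hu
        obtain ⟨u, hu'⟩ := hu
        apply hxW
        have h3 : ((u⁻¹ : Wˣ) : W).1 = x := by
          have h4 := congrArg Subtype.val u.mul_inv
          simp only [MulMemClass.coe_mul, OneMemClass.coe_one, hu'] at h4
          rw [eq_inv_of_mul_eq_one_right h4, inv_inv]
        exact h3 ▸ ((u⁻¹ : Wˣ) : W).2
      rw [← hQW] at hm
      have h5 : W'.valuation (φ x⁻¹) < 1 := by
        rw [show φ x⁻¹ = φW ⟨x⁻¹, hxi⟩ from hφ ⟨x⁻¹, hxi⟩]; exact hlt _ hm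
      have h6 : W'.valuation (φ x) ≤ 1 := (W'.valuation_le_one_iff _).mpr hx
      have hx0 : x ≠ 0 := fun h => hxW (h ▸ W.zero_mem)
      have h7 : W'.valuation (φ x⁻¹) * W'.valuation (φ x) = 1 := by
        rw [← map_mul, ← map_mul, inv_mul_cancel₀ hx0, map_one, map_one]
      exact absurd h7 (ne_of_lt (mul_lt_one_of_lt_of_le h5 h6))
    · show φ x ∈ W'
      rw [show φ x = φW ⟨x, hx⟩ from hφ ⟨x, hx⟩]
      exact hmem _
  · rw [eq_top_iff]
    intro z _
    obtain ⟨a, b, -, rfl⟩ := IsFractionRing.div_surjective (A := T ⧸ P) z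
    obtain ⟨a, rfl⟩ := Ideal.Quotient.mk_surjective a
    obtain ⟨b, rfl⟩ := Ideal.Quotient.mk_surjective b
    have hgen : ∀ t : T, π t ∈ Subfield.closure (Set.range φ ∪ Set.range ψ) := by
      intro t
      induction t using TensorProduct.induction_on with
      | zero => rw [map_zero]; exact zero_mem _
      | add p q hp hq => rw [map_add]; exact add_mem hp hq
      | tmul w c =>
        rw [show w ⊗ₜ[B] c = algebraMap W T w * Algebra.TensorProduct.includeRight c by
          show w ⊗ₜ[B] c = (w ⊗ₜ[B] (1 : C)) * ((1 : W) ⊗ₜ[B] c)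
          rw [Algebra.TensorProduct.tmul_mul_tmul, mul_one, one_mul], map_mul]
        exact mul_mem (Subfield.subset_closure (Or.inl ⟨(w : M), hφ w⟩)) (Subfield.subset_closure (Or.inr ⟨c, rfl⟩))
    exact div_mem (hgen a) (hgen b)

end EtRamTowerLib
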